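import Cfsg.Agent.Lib.FrobThm.FixedPointFree
import Mathlib

/-! Hughes subgroups: if all elements outside a proper normal subgroup `K` have `p`-th power one,
then `K` is nilpotent (Kegel), through a product identity over a subgroup normalized by an outer
element. -/

set_option autoImplicit false
set_option linter.style.haveILetI false

namespace Cfsg.Agent.Lib.Kegel

open Cfsg Cfsg.Agent.Lib.Techniques Cfsg.Agent.Lib.FrobThm
open scoped BigOperators

universe u

section Trace

variable {L A : Type*} [Group L] [CommGroup A] (ι : A →* L) (ρ : L →* MulAut A)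

theorem mul_pow_formula (hρ : ∀ c a, ι (ρ c a) = c * ι a * c⁻¹) (a : A) (c : L) (n : ℕ) :
    (ι a * c) ^ n = ι (∏ i ∈ Finset.range n, ρ (c ^ i) a) * c ^ n := by
  induction n with
  | zero => simp
  | succ n ih =>
    rw [pow_succ, ih, Finset.prod_range_succ, map_mul, hρ, pow_succ c n]
    group

variable {K : Subgroup L} {p : ℕ}

theorem trace_eq_one (hι : Function.Injective ι) (hρ : ∀ c a, ι (ρ c a) = c * ι a * c⁻¹)
    (hιK : ∀ a, ι a ∈ K) (hL : ∀ x, x ∉ K → x ^ p = 1) {c : L} (hc : c ∉ K) (a : A) :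
    ∏ i ∈ Finset.range p, ρ (c ^ i) a = 1 := by
  have h1 : ι a * c ∉ K := fun h => hc (by
    have := K.mul_mem (K.inv_mem (hιK a)) h
    simpa using this)
  have h2 := mul_pow_formula ι ρ hρ a c p
  rw [hL _ h1, hL _ hc, mul_one] at h2
  apply hι
  rw [← h2, map_one]

theorem conj_pow_mem {R : Subgroup L} {b : L} (hbR : ∀ r ∈ R, b * r * b⁻¹ ∈ R) (i : ℕ) :
    ∀ r ∈ R, b ^ i * r * (b ^ i)⁻¹ ∈ R := by
  induction i with
  | zero => intro r hr; simpa using hr
  | succ i ih =>
    intro r hr
    have := hbR _ (ih r hr)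
    have e : b ^ (i + 1) * r * (b ^ (i + 1))⁻¹ = b * (b ^ i * r * (b ^ i)⁻¹) * b⁻¹ := by
      rw [pow_succ']; group
    rw [e]; exact this

theorem mul_pow_mul_inv_mem {R : Subgroup L} {b : L} (hbR : ∀ r ∈ R, b * r * b⁻¹ ∈ R) {y : L} (hy : y ∈ R)
    (i : ℕ) : (y * b) ^ i * (b ^ i)⁻¹ ∈ R := by
  induction i with
  | zero => simp [R.one_mem]
  | succ i ih =>
    have e : (y * b) ^ (i + 1) * (b ^ (i + 1))⁻¹ =
        ((y * b) ^ i * (b ^ i)⁻¹) * (b ^ i * y * (b ^ i)⁻¹) := by
      rw [pow_succ, pow_succ]; group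
    rw [e]
    exact R.mul_mem ih (conj_pow_mem hbR i y hy)

theorem pow_inj_of_pow_eq_one {x y : L} (hp : p.Prime) {i : ℕ} (hi0 : 0 < i) (hip : i < p)
    (hx : x ^ p = 1) (hy : y ^ p = 1) (h : x ^ i = y ^ i) : x = y := by
  have hc : Nat.Coprime i p := (Nat.coprime_comm.1 ((Nat.Prime.coprime_iff_not_dvd hp).2
    (Nat.not_dvd_of_pos_of_lt hi0 hip)))
  obtain ⟨m, hm⟩ := Nat.exists_mul_mod_eq_one_of_coprime hc hp.one_lt
  have h1 : x ^ (i * m) = x := by
    rw [pow_eq_pow_mod _ hx, hm.2, pow_one]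
  have h2 : y ^ (i * m) = y := by
    rw [pow_eq_pow_mod _ hy, hm.2, pow_one]
  rw [← h1, ← h2, pow_mul, pow_mul, h]

theorem pow_mem_of_pow_eq_one {x : L} (hp : p.Prime) {i : ℕ} (hi : ¬ p ∣ i)
    (hx : x ^ p = 1) (h : x ^ i ∈ K) : x ∈ K := by
  have hc : Nat.Coprime i p := Nat.coprime_comm.1 ((Nat.Prime.coprime_iff_not_dvd hp).2 hi)
  obtain ⟨m, hm⟩ := Nat.exists_mul_mod_eq_one_of_coprime hc hp.one_lt
  have h1 : x ^ (i * m) = x := by
    rw [pow_eq_pow_mod _ hx, hm.2, pow_one]
  rw [← h1, pow_mul]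
  exact K.pow_mem h _

/-- The product identity: over a subgroup `R ≤ K` normalized by an outer element, the product of the
conjugates of `a` is `a ^ |R|`. -/
theorem prod_conj_eq_pow [Finite L] (hp : p.Prime) (hι : Function.Injective ι)
    (hρ : ∀ c a, ι (ρ c a) = c * ι a * c⁻¹) (hιK : ∀ a, ι a ∈ K)
    (hL : ∀ x, x ∉ K → x ^ p = 1) {R : Subgroup L} [Fintype R] (hRK : R ≤ K) {b : L} (hb : b ∉ K)
    (hbR : ∀ r ∈ R, b * r * b⁻¹ ∈ R) (a : A) :
    ∏ y : R, ρ (y : L) a = a ^ Fintype.card R := by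
  classical
  -- outer elements
  have hout : ∀ y : R, (y : L) * b ∉ K := fun y h => hb (by
    have := K.mul_mem (K.inv_mem (hRK y.2)) h
    simpa using this)
  obtain ⟨F, hFdef⟩ : ∃ F : ℕ → R → R, ∀ i y, (F i y : L) = ((y : L) * b) ^ i * (b ^ i)⁻¹ :=
    ⟨fun i y => ⟨_, mul_pow_mul_inv_mem hbR y.2 i⟩, fun _ _ => rfl⟩
  have hF : ∀ i (y : R), ((y : L) * b) ^ i = (F i y : L) * b ^ i := by
    intro i y
    rw [hFdef]
    group
  have hFinj : ∀ i, 0 < i → i < p → Function.Injective (F i) := by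
    intro i hi0 hip y z hyz
    have h1 : ((y : L) * b) ^ i = ((z : L) * b) ^ i := by
      rw [hF, hF, hyz]
    have h2 := pow_inj_of_pow_eq_one hp hi0 hip (hL _ (hout y)) (hL _ (hout z)) h1
    exact Subtype.ext (mul_right_cancel h2)
  let S : A →* A := ∏ y : R, (show A →* A from (ρ (y : L)).toMonoidHom)
  have hS : ∀ u, S u = ∏ y : R, ρ (y : L) u := fun u => MonoidHom.finsetProd_apply _ _ _
  have hT : ∀ i, 0 < i → i < p → ∀ w : A, ∏ y : R, ρ (F i y : L) w = S w := by
    intro i hi0 hip w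
    rw [hS]
    exact (Finite.injective_iff_bijective.1 (hFinj i hi0 hip)).prod_comp (fun y : R => ρ (y : L) w)
  have h1 : ∀ y : R, ∏ i ∈ Finset.range p, ρ (F i y : L) (ρ (b ^ i) a) = 1 := by
    intro y
    have := trace_eq_one ι ρ hι hρ hιK hL (hout y) a
    rw [← this]
    refine Finset.prod_congr rfl fun i _ => ?_
    rw [hF, map_mul]
    rfl
  have h2 : ∏ i ∈ Finset.range p, ∏ y : R, ρ (F i y : L) (ρ (b ^ i) a) = 1 := by
    rw [Finset.prod_comm]
    exact Finset.prod_eq_one fun y _ => h1 y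
  have htr := trace_eq_one ι ρ hι hρ hιK hL hb a
  obtain ⟨p', rfl⟩ := Nat.exists_eq_succ_of_ne_zero hp.ne_zero
  rw [Finset.prod_range_succ'] at h2 htr
  have h5 : ∏ i ∈ Finset.range p', ∏ y : R, ρ (F (i + 1) y : L) (ρ (b ^ (i + 1)) a) =
      S (∏ i ∈ Finset.range p', ρ (b ^ (i + 1)) a) := by
    rw [map_prod]
    refine Finset.prod_congr rfl fun i hi => ?_
    exact hT (i + 1) (Nat.succ_pos i) (Nat.succ_lt_succ (Finset.mem_range.1 hi)) _
  have h6 : ∏ y : R, ρ (F 0 y : L) (ρ (b ^ 0) a) = a ^ Fintype.card R := by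
    have : ∀ y : R, ρ (F 0 y : L) (ρ (b ^ 0) a) = a := by
      intro y
      have e : (F 0 y : L) = 1 := by
        rw [hFdef]
        simp
      rw [e, pow_zero, map_one]
      rfl
    rw [Finset.prod_congr rfl (fun y _ => this y), Finset.prod_const, Finset.card_univ]
  have h7 : ∏ i ∈ Finset.range p', ρ (b ^ (i + 1)) a = a⁻¹ := by
    have e : ρ (b ^ 0) a = a := by rw [pow_zero, map_one]; rfl
    rw [e] at htr
    exact eq_inv_of_mul_eq_one_left htr
  rw [h5, h6, h7, map_inv, mul_comm, mul_eq_one_iff_eq_inv, inv_inv] at h2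
  rw [← hS]
  exact h2.symm

end Trace

section Sub

variable {L : Type*} [Group L] [Finite L] {K : Subgroup L} {p : ℕ}

/-- A subgroup `R ≤ K` normalized by an outer element and of order prime to an abelian normal `V ≤ K`
centralizes `V`. -/
theorem coprime_centralizes' (hp : p.Prime) (hL : ∀ x, x ∉ K → x ^ p = 1) {V R : Subgroup L} [hV : V.Normal]
    (hVK : V ≤ K) (hVc : ∀ a ∈ V, ∀ b ∈ V, a * b = b * a) (hRK : R ≤ K) {b : L} (hb : b ∉ K)
    (hbR : ∀ r ∈ R, b * r * b⁻¹ ∈ R) (hcop : (Nat.card V).Coprime (Nat.card R)) :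
    ∀ r ∈ R, ∀ v ∈ V, r * v * r⁻¹ = v := by
  classical
  letI : Fintype R := Fintype.ofFinite _
  letI : CommGroup V := { (inferInstance : Group V) with mul_comm := fun a b => Subtype.ext (hVc a a.2 b b.2) }
  have key := prod_conj_eq_pow (K := K) (p := p) V.subtype (MulAut.conjNormal (H := V)) hp V.subtype_injective
    (fun c a => by simp [MulAut.conjNormal_apply]) (fun a => hVK a.2) hL hRK hb hbR
  have hcard : Fintype.card R = Nat.card R := (Nat.card_eq_fintype_card).symm
  intro q hq n hn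
  let e := powCoprime hcop
  obtain ⟨u, hu⟩ := e.surjective ⟨n, hn⟩
  have hu' : u ^ Fintype.card R = ⟨n, hn⟩ := by rw [hcard]; exact hu
  have h1 := key u
  rw [hu'] at h1
  have h2 : MulAut.conjNormal q (∏ y : R, MulAut.conjNormal (H := V) (y : L) u) =
      ∏ y : R, MulAut.conjNormal (H := V) (y : L) u := by
    rw [map_prod]
    have h3 : ∀ y : R, MulAut.conjNormal (H := V) q (MulAut.conjNormal (H := V) (y : L) u) =
        MulAut.conjNormal (H := V) ((⟨q, hq⟩ * y : R) : L) u := by
      intro y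
      show _ = MulAut.conjNormal (H := V) (q * (y : L)) u
      rw [map_mul]
      rfl
    rw [Finset.prod_congr rfl (fun y _ => h3 y)]
    exact (Equiv.mulLeft (⟨q, hq⟩ : R)).bijective.prod_comp (fun x : R => MulAut.conjNormal (H := V) (x : L) u)
  rw [h1] at h2
  have h3 := congrArg Subtype.val h2
  rw [MulAut.conjNormal_apply] at h3
  exact h3

end Sub

section Center

variable {L : Type*} [Group L] [Finite L] {K : Subgroup L} {p : ℕ}

theorem exists_outer_normalizer [hK : K.Normal] {q : ℕ} [Fact q.Prime] (Q : Sylow q K) {b : L} (hb : b ∉ K) :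
    ∃ c, c ∉ K ∧ ∀ r ∈ (Q : Subgroup K).map K.subtype, c * r * c⁻¹ ∈ (Q : Subgroup K).map K.subtype := by
  have h := Sylow.normalizer_sup_eq_top (N := K) Q
  by_contra hcon
  push Not at hcon
  have hle : Subgroup.normalizer (((Q : Subgroup K).map K.subtype : Subgroup L) : Set L) ≤ K := by
    intro c hc
    by_contra hcK
    obtain ⟨r, hr, hr'⟩ := hcon c hcK
    exact hr' ((Subgroup.mem_normalizer_iff.1 hc r).1 hr)
  rw [sup_eq_right.2 hle] at h
  exact hb (h ▸ Subgroup.mem_top b)

/-- An abelian normal `r`-subgroup `V ≤ K` of `L` meets the centre of `K`. -/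
theorem center_ne_bot_of_abelian' [hK : K.Normal] (hp : p.Prime) (hL : ∀ x, x ∉ K → x ^ p = 1) {b : L}
    (hb : b ∉ K) {V : Subgroup L} [hV : V.Normal] {r : ℕ} [hr : Fact r.Prime] (hVp : IsPGroup r V)
    (hVb : V ≠ ⊥) (hVc : ∀ a ∈ V, ∀ b ∈ V, a * b = b * a) (hVK : V ≤ K) :
    Subgroup.center K ≠ ⊥ := by
  obtain ⟨P⟩ : Nonempty (Sylow r K) := inferInstance
  let V' : Subgroup K := V.subgroupOf K
  haveI hV'n : V'.Normal := Subgroup.Normal.subgroupOf hV K
  have hV'p : IsPGroup r V' := hVp.comap_of_injective K.subtype K.subtype_injective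
  have hVP : V' ≤ P := hV'p.le_sylow_of_normal P
  haveI : Group.IsNilpotent (P : Subgroup K) := P.isPGroup'.isNilpotent
  have hV'' : (V'.subgroupOf (P : Subgroup K)).Normal := Subgroup.Normal.subgroupOf hV'n _
  have hV'b : V' ≠ ⊥ := by
    rcases V.bot_or_exists_ne_one with h | ⟨v, hv, hv1⟩
    · exact absurd h hVb
    intro h
    have : (⟨v, hVK hv⟩ : K) ∈ V' := hv
    rw [h, Subgroup.mem_bot] at this
    exact hv1 (congrArg Subtype.val this)
  have hVb' : V'.subgroupOf (P : Subgroup K) ≠ ⊥ := by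
    intro h
    apply hV'b
    rw [eq_bot_iff]
    intro x hx
    have : (⟨x, hVP hx⟩ : (P : Subgroup K)) ∈ V'.subgroupOf (P : Subgroup K) := hx
    rw [h, Subgroup.mem_bot] at this
    simpa using congrArg Subtype.val this
  have h1 := Cfsg.Agent.Lib.Core.normal_inf_center_ne_bot _ hVb'
  rcases (V'.subgroupOf (P : Subgroup K) ⊓ Subgroup.center (P : Subgroup K)).bot_or_exists_ne_one with h | ⟨z, hz, hz1⟩
  · exact absurd h h1
  have hzV : (z : K) ∈ V' := hz.1
  have hzV' : ((z : K) : L) ∈ V := hzV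
  have hzc : ∀ t : (P : Subgroup K), t * z = z * t := fun t => (Subgroup.mem_center_iff.1 hz.2) t
  have htop : Subgroup.centralizer ({(z : K)} : Set K) = ⊤ := by
    apply eq_top_of_contains_sylow
    intro q hq
    by_cases hqp : q = r
    · subst hqp
      refine ⟨P, ?_, P.isPGroup', P.not_dvd_index⟩
      intro t ht
      rw [Subgroup.mem_centralizer_iff]
      rintro _ rfl
      have := hzc ⟨t, ht⟩
      exact (congrArg Subtype.val this).symm
    · haveI : Fact q.Prime := ⟨hq⟩
      obtain ⟨Q⟩ : Nonempty (Sylow q K) := inferInstance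
      obtain ⟨c, hc, hcQ⟩ := exists_outer_normalizer Q hb
      refine ⟨Q, ?_, Q.isPGroup', Q.not_dvd_index⟩
      have hcop : (Nat.card V).Coprime (Nat.card ((Q : Subgroup K).map K.subtype)) := by
        obtain ⟨a, ha⟩ := IsPGroup.iff_card.1 hVp
        obtain ⟨e, he⟩ := IsPGroup.iff_card.1 Q.isPGroup'
        rw [ha, Subgroup.card_map_of_injective K.subtype_injective, he]
        exact Nat.Coprime.pow _ _ ((Nat.coprime_primes hr.out hq).2 (fun h => hqp h.symm))
      have hRK : (Q : Subgroup K).map K.subtype ≤ K := by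
        rintro _ ⟨y, -, rfl⟩
        exact y.2
      intro y hy
      rw [Subgroup.mem_centralizer_iff]
      rintro _ rfl
      have := coprime_centralizes' hp hL hVK hVc hRK hc hcQ hcop (y : L) ⟨y, hy, rfl⟩ _ hzV'
      rw [mul_inv_eq_iff_eq_mul] at this
      exact Subtype.ext this.symm
  intro hcb
  apply hz1
  have : (z : K) ∈ Subgroup.center K := by
    rw [Subgroup.mem_center_iff]
    intro g
    have hg : g ∈ Subgroup.centralizer ({(z : K)} : Set K) := by rw [htop]; exact Subgroup.mem_top _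
    exact (Subgroup.mem_centralizer_iff.1 hg _ rfl).symm
  rw [hcb, Subgroup.mem_bot] at this
  exact Subtype.ext this

end Center

section Main

/-- A subgroup normalized by an outer element gives a smaller instance of the hypothesis. -/
theorem hyp_sub {L : Type u} [Group L] [Finite L] {K : Subgroup L} {p : ℕ} (hp : p.Prime)
    (hL : ∀ x, x ∉ K → x ^ p = 1) {K₁ : Subgroup L} (hK₁ : K₁ ≤ K) {c : L} (hc : c ∉ K)
    (hcK₁ : ∀ k ∈ K₁, c * k * c⁻¹ ∈ K₁) :
    ∃ (T : Subgroup L) (_ : c ∈ T), K₁ ≤ T ∧ (K₁.subgroupOf T).Normal ∧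
      (∀ x : T, x ∉ K₁.subgroupOf T → x ^ p = 1) := by
  have hcp := hL c hc
  let T := Subgroup.closure ((K₁ : Set L) ∪ {c})
  have hconj := conj_pow_mem hcK₁
  have hform : ∀ x ∈ T, ∃ k ∈ K₁, ∃ i : ℕ, x = k * c ^ i := by
    intro x hx
    induction hx using Subgroup.closure_induction with
    | mem x hx =>
      rcases hx with hx | hx
      · exact ⟨x, hx, 0, by simp⟩
      · rw [Set.mem_singleton_iff.1 hx]; exact ⟨1, K₁.one_mem, 1, by simp⟩
    | one => exact ⟨1, K₁.one_mem, 0, by simp⟩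
    | mul x y _ _ hx hy =>
      obtain ⟨k, hk, i, rfl⟩ := hx
      obtain ⟨k', hk', j, rfl⟩ := hy
      refine ⟨k * (c ^ i * k' * (c ^ i)⁻¹), K₁.mul_mem hk (hconj i k' hk'), i + j, ?_⟩
      rw [pow_add]; group
    | inv x _ hx =>
      obtain ⟨k, hk, i, rfl⟩ := hx
      have hm : (c ^ i)⁻¹ = c ^ ((p - 1) * i) := by
        rw [inv_eq_iff_mul_eq_one, ← pow_add]
        have e : i + (p - 1) * i = p * i := by
          have := hp.one_lt
          obtain ⟨q, rfl⟩ : ∃ q, p = q + 1 := ⟨p - 1, by omega⟩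
          simp only [Nat.add_sub_cancel]
          ring
        rw [e, pow_mul, hcp, one_pow]
      refine ⟨c ^ ((p - 1) * i) * k⁻¹ * (c ^ ((p - 1) * i))⁻¹, hconj _ _ (K₁.inv_mem hk), (p - 1) * i, ?_⟩
      rw [mul_inv_rev, hm]; group
  have hK₁T : K₁ ≤ T := fun x hx => Subgroup.subset_closure (Or.inl hx)
  have hcT : c ∈ T := Subgroup.subset_closure (Or.inr rfl)
  refine ⟨T, hcT, hK₁T, ?_, ?_⟩
  · refine ⟨fun n hn g => ?_⟩
    obtain ⟨k, hk, i, hg⟩ := hform g g.2
    rw [Subgroup.mem_subgroupOf] at hn ⊢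
    show (g : L) * (n : L) * (g : L)⁻¹ ∈ K₁
    rw [hg]
    have e : k * c ^ i * (n : L) * (k * c ^ i)⁻¹ = k * (c ^ i * (n : L) * (c ^ i)⁻¹) * k⁻¹ := by group
    rw [e]
    exact K₁.mul_mem (K₁.mul_mem hk (hconj i _ hn)) (K₁.inv_mem hk)
  · intro x hx
    obtain ⟨k, hk, i, hi⟩ := hform x x.2
    have hpi : ¬ p ∣ i := by
      rintro ⟨m, rfl⟩
      apply hx
      rw [Subgroup.mem_subgroupOf, hi, pow_mul, hcp, one_pow, mul_one]
      exact hk
    have hxK : (x : L) ∉ K := by
      intro hxK
      apply hc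
      refine pow_mem_of_pow_eq_one hp hpi hcp ?_
      have : c ^ i = k⁻¹ * x := by rw [hi]; group
      rw [this]
      exact K.mul_mem (K.inv_mem (hK₁ hk)) hxK
    exact Subtype.ext (by simpa using hL _ hxK)

theorem kegel_aux {p : ℕ} (hp : p.Prime) : ∀ (n : ℕ) (L : Type u) [Group L] [Finite L] (K : Subgroup L)
    [K.Normal] (b : L), Nat.card K = n → b ∉ K → (∀ x, x ∉ K → x ^ p = 1) → Group.IsNilpotent K := by
  intro n
  induction n using Nat.strong_induction_on with
  | _ n ih =>
    intro L _ _ K hKn b hcard hb hL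
    rcases subsingleton_or_nontrivial K with hs | hnt
    · infer_instance
    have hIH : ∀ (H : Subgroup K) (c : L), H ≠ ⊤ → c ∉ K → (∀ h ∈ H, MulAut.conjNormal c h ∈ H) →
        Group.IsNilpotent H := by
      intro H c hH hc hinv
      let K₁ : Subgroup L := H.map K.subtype
      have hK₁ : K₁ ≤ K := by
        rintro _ ⟨y, -, rfl⟩
        exact y.2
      have hcK₁ : ∀ k ∈ K₁, c * k * c⁻¹ ∈ K₁ := by
        rintro _ ⟨h, hh, rfl⟩
        exact ⟨_, hinv h hh, by simp [MulAut.conjNormal_apply]⟩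
      obtain ⟨T, hcT, hK₁T, hnorm, hout⟩ := hyp_sub hp hL hK₁ hc hcK₁
      haveI := hnorm
      have e : K₁.subgroupOf T ≃* H :=
        (Subgroup.subgroupOfEquivOfLe hK₁T).trans (Subgroup.equivMapOfInjective H K.subtype K.subtype_injective).symm
      have hlt : Nat.card (K₁.subgroupOf T) < n := by
        rw [Nat.card_congr e.toEquiv, ← hcard]
        exact lt_of_le_of_ne (Subgroup.card_le_card_group H) (fun h => hH (Subgroup.eq_top_of_card_eq H h))
      have hcnot : (⟨c, hcT⟩ : T) ∉ K₁.subgroupOf T := fun h => hc (hK₁ h)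
      haveI hnil := ih _ hlt T (K₁.subgroupOf T) ⟨c, hcT⟩ rfl hcnot hout
      exact Group.nilpotent_of_mulEquiv e
    have hpgroup : ∀ r : ℕ, r.Prime → IsPGroup r K → Subgroup.center K ≠ ⊥ := by
      intro r hr hG
      haveI : Fact r.Prime := ⟨hr⟩
      exact (Subgroup.one_lt_card_iff_ne_bot _).1 (by
        haveI := hG.center_nontrivial
        exact Finite.one_lt_card)
    have hcenterN : ∀ N : Subgroup K, N ≠ ⊥ → N ≠ ⊤ → (∀ (c : L), ∀ m ∈ N, MulAut.conjNormal c m ∈ N) →
        Subgroup.center K ≠ ⊥ := by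
      intro N hNb hNt hNinv
      haveI hNnil := hIH N b hNt hb (hNinv b)
      haveI : Nontrivial N := (Subgroup.nontrivial_iff_ne_bot N).2 hNb
      have hcb : Subgroup.center N ≠ ⊥ := Group.IsNilpotent.center_ne_bot N
      rcases (Subgroup.center N).bot_or_exists_ne_one with h | ⟨z, hz, hz1⟩
      · exact absurd h hcb
      have hzo : orderOf (z : K) ≠ 1 := by
        intro h
        apply hz1
        exact Subtype.ext (orderOf_eq_one_iff.1 h)
      obtain ⟨r, hr, hrd⟩ := Nat.exists_prime_and_dvd hzo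
      haveI : Fact r.Prime := ⟨hr⟩
      have hzpos : orderOf (z : K) ≠ 0 := (orderOf_pos _).ne'
      set w : K := (z : K) ^ (orderOf (z : K) / r) with hw
      have hwo : orderOf w = r := orderOf_pow_orderOf_div hzpos hrd
      have hzC : (z : K) ∈ Subgroup.centralizer (N : Set K) := by
        rw [Subgroup.mem_centralizer_iff]
        intro m hm
        have := (Subgroup.mem_center_iff.1 hz) ⟨m, hm⟩
        exact congrArg Subtype.val this
      have hwV : w ∈ OmegaZ r N :=
        ⟨N.pow_mem z.2 _, Subgroup.pow_mem _ hzC _, by rw [← hwo]; exact pow_orderOf_eq_one w⟩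
      have hw1 : w ≠ 1 := by
        intro h
        rw [h, orderOf_one] at hwo
        exact hr.one_lt.ne hwo
      have hVinv : ∀ (c : L), ∀ v ∈ OmegaZ r N, MulAut.conjNormal c v ∈ OmegaZ r N := by
        rintro c v ⟨hv1, hv2, hv3⟩
        have hNmap := map_eq_of_invariant (MulAut.conjNormal c) (hNinv c)
        refine ⟨hNinv c v hv1, centralizer_invariant (MulAut.conjNormal c) hNmap hv2, ?_⟩
        rw [← map_pow, hv3, map_one]
      let V : Subgroup L := (OmegaZ r N).map K.subtype
      haveI hVn : V.Normal := by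
        refine ⟨?_⟩
        rintro _ ⟨v, hv, rfl⟩ g
        exact ⟨_, hVinv g v hv, by simp [MulAut.conjNormal_apply]⟩
      have hVp : IsPGroup r V := by
        rintro ⟨_, v, hv, rfl⟩
        refine ⟨1, Subtype.ext ?_⟩
        simpa using congrArg Subtype.val hv.2.2
      have hVb : V ≠ ⊥ := by
        intro h
        have : (w : L) ∈ V := ⟨w, hwV, rfl⟩
        rw [h, Subgroup.mem_bot] at this
        exact hw1 (Subtype.ext this)
      have hVc : ∀ a ∈ V, ∀ a' ∈ V, a * a' = a' * a := by
        rintro _ ⟨v, hv, rfl⟩ _ ⟨v', hv', rfl⟩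
        exact congrArg Subtype.val ((EA_OmegaZ r N).1 v hv v' hv')
      have hVK : V ≤ K := by
        rintro _ ⟨y, -, rfl⟩
        exact y.2
      exact center_ne_bot_of_abelian' hp hL hb hVp hVb hVc hVK
    have hcenter : Subgroup.center K ≠ ⊥ := by
      by_cases hN : ∃ N : Subgroup K, N ≠ ⊥ ∧ N ≠ ⊤ ∧ ∀ (c : L), ∀ m ∈ N, MulAut.conjNormal c m ∈ N
      · obtain ⟨N, hNb, hNt, hNinv⟩ := hN
        exact hcenterN N hNb hNt hNinv
      · have hsimple : ∀ N : Subgroup K, N ≠ ⊥ → (∀ (c : L), ∀ m ∈ N, MulAut.conjNormal c m ∈ N) → N = ⊤ := by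
          intro N h2 h3
          by_contra h4
          exact hN ⟨N, h2, h4, h3⟩
        have hchar : ∀ (N : Subgroup K) [N.Characteristic] (c : L), ∀ m ∈ N, MulAut.conjNormal c m ∈ N := by
          intro N hNc c m hm
          have := (Subgroup.characteristic_iff_comap_eq.1 hNc (MulAut.conjNormal c)⁻¹)
          rw [← this]
          simpa using hm
        by_cases hp2 : ∃ q : ℕ, q.Prime ∧ q ≠ 2 ∧ q ∣ Nat.card K
        · obtain ⟨q, hq, hodd, hqd⟩ := hp2
          haveI : Fact q.Prime := ⟨hq⟩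
          obtain ⟨P⟩ : Nonempty (Sylow q K) := inferInstance
          obtain ⟨c, hc, hcP⟩ := exists_outer_normalizer P hb
          let α : K ≃* K := MulAut.conjNormal c
          have hPinv : ∀ y ∈ (P : Subgroup K), α y ∈ (P : Subgroup K) := by
            intro y hy
            have h1 := hcP (y : L) ⟨y, hy, rfl⟩
            obtain ⟨y', hy', e⟩ := h1
            have : y' = α y := by
              apply Subtype.ext
              rw [show ((α y : K) : L) = c * y * c⁻¹ from MulAut.conjNormal_apply _ _]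
              exact e
            rw [← this]
            exact hy'
          have hP : (P : Subgroup K).map (α : K →* K) = P := map_eq_of_invariant α hPinv
          have hPb := P.ne_bot_of_dvd_card hqd
          have hinj : Set.InjOn (α : K →* K) ((P : Subgroup K) : Set K) := α.injective.injOn
          have hJ : (JJ q (P : Subgroup K)).map (α : K →* K) = JJ q (P : Subgroup K) := by
            rw [← JJ_map _ hinj, hP]
          have hZ : (ZZ (P : Subgroup K)).map (α : K →* K) = ZZ (P : Subgroup K) := by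
            rw [← ZZ_map _ hinj, hP]
          have hPt : (pCore q K) = ⊤ → IsPGroup q K := by
            intro h
            have h1 := Cfsg.Agent.Lib.Core.pCore_isPGroup (p := q) (G := K)
            rw [h] at h1
            exact h1.of_equiv Subgroup.topEquiv
          refine by_contra ?_
          intro hcb
          have hNJ : PNil q (Subgroup.normalizer (JJ q (P : Subgroup K) : Set K)) := by
            by_cases htop : Subgroup.normalizer (JJ q (P : Subgroup K) : Set K) = ⊤
            · exfalso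
              have hn : (JJ q (P : Subgroup K)).Normal := Subgroup.normalizer_eq_top_iff.1 htop
              have hJp : IsPGroup q (JJ q (P : Subgroup K)) := P.isPGroup'.to_le JJ_le
              have h0 := Cfsg.Agent.Lib.Core.le_pCore hn hJp
              have h1 : pCore q K ≠ ⊥ := fun h =>
                (JJ_ne_bot (dvd_refl q) P.isPGroup' hPb) (by rw [eq_bot_iff, ← h]; exact h0)
              exact hcb (hpgroup q hq (hPt (hsimple _ h1 (hchar _))))
            · have hnil := hIH _ c htop hc (fun m hm => normalizer_invariant α hJ hm)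
              exact (hasNormalPComplement_iff_pNil _).1
                (Cfsg.Agent.Lib.Transfer.hasNormalPComplement_of_isNilpotent hnil)
          have hCZ : PNil q (Subgroup.centralizer (ZZ (P : Subgroup K) : Set K)) := by
            by_cases htop : Subgroup.centralizer (ZZ (P : Subgroup K) : Set K) = ⊤
            · exfalso
              apply hcb
              have hZb := ZZ_ne_bot P.isPGroup' hPb
              rcases (ZZ (P : Subgroup K)).bot_or_exists_ne_one with h | ⟨z, hz, hz1⟩
              · exact absurd h hZb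
              intro hc'
              apply hz1
              have : z ∈ Subgroup.center K := by
                rw [Subgroup.mem_center_iff]
                intro g
                have hg : g ∈ Subgroup.centralizer (ZZ (P : Subgroup K) : Set K) := by
                  rw [htop]; exact Subgroup.mem_top _
                exact (Subgroup.mem_centralizer_iff.1 hg z hz).symm
              rw [hc', Subgroup.mem_bot] at this
              exact this
            · have hnil := hIH _ c htop hc (fun m hm => centralizer_invariant α hZ hm)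
              exact (hasNormalPComplement_iff_pNil _).1
                (Cfsg.Agent.Lib.Transfer.hasNormalPComplement_of_isNilpotent hnil)
          have hPN := thompson_pnil hodd (dvd_refl q) P hNJ hCZ
          have hkinv : ∀ (c : L), ∀ m ∈ hPN.ker, MulAut.conjNormal c m ∈ hPN.ker := by
            rintro c m ⟨-, hm⟩
            refine ⟨Subgroup.mem_top _, ?_⟩
            rw [MulEquiv.orderOf_eq]
            exact hm
          by_cases hkb : hPN.ker = ⊥
          · apply hcb
            refine hpgroup q hq ?_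
            intro g
            obtain ⟨k, hk⟩ := Cfsg.Agent.Lib.Techniques.exists_pow_coprime_order (p := q) g
            refine ⟨k, ?_⟩
            have : g ^ q ^ k ∈ hPN.ker := ⟨Subgroup.mem_top _, hk⟩
            rw [hkb, Subgroup.mem_bot] at this
            exact this
          · have hkt := hsimple _ hkb hkinv
            obtain ⟨x, hx⟩ := exists_prime_orderOf_dvd_card' q hqd
            have hxk : x ∈ hPN.ker := by rw [hkt]; exact Subgroup.mem_top _
            have h1 := hxk.2
            rw [hx] at h1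
            have : q = 1 := by simpa using h1
            exact hq.one_lt.ne' this
        · have h2 : IsPGroup 2 K := by
            refine IsPGroup.of_card (n := (Nat.primeFactorsList (Nat.card K)).length) ?_
            apply Nat.eq_prime_pow_of_unique_prime_dvd Nat.card_pos.ne'
            intro d hd hdd
            by_contra hne
            exact hp2 ⟨d, hd, hne, hdd⟩
          exact hpgroup 2 Nat.prime_two h2
    -- quotient by the centre
    let Z : Subgroup L := (Subgroup.center K).map K.subtype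
    haveI hZn : Z.Normal := ConjAct.normal_of_characteristic_of_normal
    have hZK : Z ≤ K := by
      rintro _ ⟨y, -, rfl⟩
      exact y.2
    let π := QuotientGroup.mk' Z
    let Kb : Subgroup (L ⧸ Z) := K.map π
    haveI : Kb.Normal := Subgroup.Normal.map hKn π (QuotientGroup.mk'_surjective Z)
    let f : K →* Kb := (π.comp K.subtype).codRestrict Kb (fun x => ⟨x, x.2, rfl⟩)
    have hfs : Function.Surjective f := by
      rintro ⟨_, y, hy, rfl⟩
      exact ⟨⟨y, hy⟩, rfl⟩
    have hfk : f.ker ≤ Subgroup.center K := by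
      intro x hx
      have h1 : π (x : L) = 1 := congrArg Subtype.val hx
      have h2 : (x : L) ∈ Z := (QuotientGroup.eq_one_iff _).1 h1
      obtain ⟨y, hy, e⟩ := h2
      have : y = x := Subtype.ext e
      rw [← this]
      exact hy
    have hcardZ : 1 < Nat.card (Subgroup.center K) := (Subgroup.one_lt_card_iff_ne_bot _).2 hcenter
    have hlt : Nat.card Kb < n := by
      rw [← hcard]
      have h0 : f.ker = Subgroup.center K := by
        refine le_antisymm hfk ?_
        intro x hx
        apply Subtype.ext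
        show π (x : L) = 1
        exact (QuotientGroup.eq_one_iff _).2 ⟨x, hx, rfl⟩
      have h1 := Subgroup.card_eq_card_quotient_mul_card_subgroup f.ker
      have h2 : Nat.card (K ⧸ f.ker) = Nat.card Kb :=
        Nat.card_congr (QuotientGroup.quotientKerEquivOfSurjective f hfs).toEquiv
      rw [h2, h0] at h1
      have h3 : 0 < Nat.card Kb := Nat.card_pos
      rw [h1]
      nlinarith
    have hbb : π b ∉ Kb := by
      rintro ⟨y, hy, e⟩
      have h1 : y⁻¹ * b ∈ Z := QuotientGroup.eq.1 e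
      exact hb (by
        have := K.mul_mem hy (hZK h1)
        simpa using this)
    have hLb : ∀ x, x ∉ Kb → x ^ p = 1 := by
      intro x hx
      obtain ⟨x, rfl⟩ := QuotientGroup.mk'_surjective Z x
      have hxK : x ∉ K := fun h => hx ⟨x, h, rfl⟩
      rw [← map_pow, hL x hxK, map_one]
    haveI hnil : Group.IsNilpotent Kb := ih _ hlt (L ⧸ Z) Kb (π b) rfl hbb hLb
    exact Subgroup.isNilpotent_of_ker_le_center f hfk

/-- **Kegel's theorem** for Hughes-type subgroups. -/
theorem kegel {L : Type u} [Group L] [Finite L] {p : ℕ} (hp : p.Prime) (K : Subgroup L) [K.Normal] {b : L}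
    (hb : b ∉ K) (hL : ∀ x, x ∉ K → x ^ p = 1) : Group.IsNilpotent K :=
  kegel_aux hp _ L K b rfl hb hL

/-- Two commuting automorphisms with vanishing traces on the listed cyclic groups kill `y ^ p`. -/
theorem pow_eq_one_of_commuting {A : Type*} [CommGroup A] {p : ℕ} (hp : p.Prime) (f g : MulAut A)
    (hfg : Commute f g)
    (h1 : ∀ k, k < p → ∀ y : A, ∏ j ∈ Finset.range p, ((g * f ^ k) ^ j) y = 1)
    (h2 : ∀ j, 0 < j → j < p → ∀ y : A, ∏ k ∈ Finset.range p, ((f ^ j) ^ k) y = 1) (y : A) :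
    y ^ p = 1 := by
  have h3 : ∏ k ∈ Finset.range p, ∏ j ∈ Finset.range p, ((g * f ^ k) ^ j) y = 1 :=
    Finset.prod_eq_one fun k hk => h1 k (Finset.mem_range.1 hk) y
  rw [Finset.prod_comm] at h3
  have h4 : ∀ j, 0 < j → j < p → ∏ k ∈ Finset.range p, ((g * f ^ k) ^ j) y = 1 := by
    intro j hj0 hjp
    have e : ∀ k, ((g * f ^ k) ^ j) y = (g ^ j) (((f ^ j) ^ k) y) := by
      intro k
      have hc : Commute g (f ^ k) := (hfg.symm.pow_right k)
      rw [hc.mul_pow, ← pow_mul, mul_comm k j, pow_mul]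
      rfl
    rw [Finset.prod_congr rfl (fun k _ => e k), ← map_prod, h2 j hj0 hjp y, map_one]
  obtain ⟨p', rfl⟩ := Nat.exists_eq_succ_of_ne_zero hp.ne_zero
  rw [Finset.prod_range_succ'] at h3
  rw [Finset.prod_eq_one (fun j hj => h4 (j + 1) (Nat.succ_pos j) (Nat.succ_lt_succ (Finset.mem_range.1 hj))),
    one_mul] at h3
  have h5 : ∀ k, ((g * f ^ k) ^ 0) y = y := fun _ => rfl
  rw [Finset.prod_congr rfl (fun k _ => h5 k), Finset.prod_const, Finset.card_range] at h3
  exact h3

/-- **Hughes–Thompson**: a non-`p`-group with a proper normal subgroup outside which all elements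
have `p`-th power one: the subgroup has index `p`. -/
theorem index_eq_prime {L : Type u} [Group L] [Finite L] {p : ℕ} (hp : p.Prime) (K : Subgroup L) [hKn : K.Normal]
    {b : L} (hb : b ∉ K) (hL : ∀ x, x ∉ K → x ^ p = 1) (hnp : ¬ IsPGroup p L) : K.index = p := by
  classical
  haveI : Fact p.Prime := ⟨hp⟩
  haveI hnil : Group.IsNilpotent K := kegel hp K hb hL
  -- a prime `q ≠ p`
  obtain ⟨q, hq, hqp, hqd⟩ : ∃ q : ℕ, q.Prime ∧ q ≠ p ∧ q ∣ Nat.card L := by
    by_contra hcon
    push Not at hcon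
    apply hnp
    refine IsPGroup.of_card (n := (Nat.primeFactorsList (Nat.card L)).length) ?_
    apply Nat.eq_prime_pow_of_unique_prime_dvd Nat.card_pos.ne'
    intro d hd hdd
    by_contra hne
    exact hcon d hd hne hdd
  haveI : Fact q.Prime := ⟨hq⟩
  obtain ⟨t, ht⟩ := exists_prime_orderOf_dvd_card' q hqd
  have htK : t ∈ K := by
    by_contra h
    have h1 := orderOf_dvd_of_pow_eq_one (hL t h)
    rw [ht] at h1
    exact hqp ((Nat.prime_dvd_prime_iff_eq hq hp).1 h1)
  -- a central element of order `q`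
  obtain ⟨Q⟩ : Nonempty (Sylow q K) := inferInstance
  have hqK : q ∣ Nat.card K := by
    have h1 : orderOf (⟨t, htK⟩ : K) = q := by
      rw [← ht]
      exact (Subgroup.orderOf_coe (⟨t, htK⟩ : K)).symm
    rw [← h1]
    exact orderOf_dvd_natCard _
  have hQb : (Q : Subgroup K) ≠ ⊥ := Q.ne_bot_of_dvd_card hqK
  haveI hQn : (Q : Subgroup K).Normal :=
    (by
      have h := (Group.isNilpotent_of_finite_tfae (G := K)).out 0 3
      exact h.1 hnil q inferInstance Q)
  have h1 := Cfsg.Agent.Lib.Core.normal_inf_center_ne_bot (Q : Subgroup K) hQb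
  rcases ((Q : Subgroup K) ⊓ Subgroup.center K).bot_or_exists_ne_one with h | ⟨z, hz, hz1⟩
  · exact absurd h h1
  have hzo : orderOf z ≠ 1 := fun h => hz1 (orderOf_eq_one_iff.1 h)
  have hzq : q ∣ orderOf z := by
    obtain ⟨r, hr, hrd⟩ := Nat.exists_prime_and_dvd hzo
    have h2 : orderOf (⟨z, hz.1⟩ : (Q : Subgroup K)) = orderOf z :=
      (Subgroup.orderOf_coe (⟨z, hz.1⟩ : (Q : Subgroup K))).symm
    have h3 : orderOf z ∣ Nat.card (Q : Subgroup K) := by
      rw [← h2]
      exact orderOf_dvd_natCard _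
    obtain ⟨a, ha⟩ := IsPGroup.iff_card.1 Q.isPGroup'
    rw [ha] at h3
    have h4 := (Nat.prime_dvd_prime_iff_eq hr hq).1 (hr.dvd_of_dvd_pow (hrd.trans h3))
    exact h4 ▸ hrd
  have hzpos : orderOf z ≠ 0 := (orderOf_pos _).ne'
  set w : K := z ^ (orderOf z / q) with hw
  have hwo : orderOf w = q := orderOf_pow_orderOf_div hzpos hzq
  have hw1 : w ≠ 1 := by
    intro h
    rw [h, orderOf_one] at hwo
    exact hq.one_lt.ne hwo
  have hwc : w ∈ Subgroup.center K := Subgroup.pow_mem _ hz.2 _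
  have hwV : w ∈ OmegaZ q (⊤ : Subgroup K) := by
    refine ⟨Subgroup.mem_top _, ?_, by rw [← hwo]; exact pow_orderOf_eq_one w⟩
    rw [Subgroup.mem_centralizer_iff]
    intro g _
    exact Subgroup.mem_center_iff.1 hwc g
  have hVinv : ∀ (c : L), ∀ v ∈ OmegaZ q (⊤ : Subgroup K), MulAut.conjNormal c v ∈ OmegaZ q (⊤ : Subgroup K) := by
    rintro c v ⟨hv1, hv2, hv3⟩
    have hNmap := map_eq_of_invariant (N := (⊤ : Subgroup K)) (MulAut.conjNormal c) (fun _ _ => Subgroup.mem_top _)
    refine ⟨Subgroup.mem_top _, centralizer_invariant (MulAut.conjNormal c) hNmap hv2, ?_⟩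
    rw [← map_pow, hv3, map_one]
  let V : Subgroup L := (OmegaZ q (⊤ : Subgroup K)).map K.subtype
  haveI hVn : V.Normal := by
    refine ⟨?_⟩
    rintro _ ⟨v, hv, rfl⟩ g
    exact ⟨_, hVinv g v hv, by simp [MulAut.conjNormal_apply]⟩
  have hVq : ∀ v ∈ V, v ^ q = 1 := by
    rintro _ ⟨v, hv, rfl⟩
    simpa using congrArg Subtype.val hv.2.2
  have hVp : IsPGroup q V := by
    rintro ⟨v, hv⟩
    exact ⟨1, Subtype.ext (by simpa using hVq v hv)⟩
  have hVc : ∀ a ∈ V, ∀ a' ∈ V, a * a' = a' * a := by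
    rintro _ ⟨v, hv, rfl⟩ _ ⟨v', hv', rfl⟩
    exact congrArg Subtype.val ((EA_OmegaZ q (⊤ : Subgroup K)).1 v hv v' hv')
  have hVK : V ≤ K := by
    rintro _ ⟨y, -, rfl⟩
    exact y.2
  have hwV' : (w : L) ∈ V := ⟨w, hwV, rfl⟩
  -- the quotient
  let π := QuotientGroup.mk' K
  have hπ1 : ∀ x, π x = 1 ↔ x ∈ K := fun x => QuotientGroup.eq_one_iff x
  have hQp : ∀ x : L ⧸ K, x ^ p = 1 := by
    intro x
    obtain ⟨x, rfl⟩ := QuotientGroup.mk'_surjective K x
    by_cases h : x ∈ K
    · rw [(hπ1 x).2 h, one_pow]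
    · rw [← map_pow, hL x h, map_one]
  have hQgrp : IsPGroup p (L ⧸ K) := fun x => ⟨1, by simpa using hQp x⟩
  have hQnt : Nontrivial (L ⧸ K) := ⟨⟨π b, 1, fun h => hb ((hπ1 b).1 h)⟩⟩
  by_contra hidx
  have hcardne : Nat.card (L ⧸ K) ≠ p := by
    rw [← Subgroup.index_eq_card]
    exact hidx
  -- central `ū`, and `v̄` outside `⟨ū⟩`
  haveI := hQgrp.center_nontrivial
  obtain ⟨u₀, hu₀⟩ := exists_ne (1 : Subgroup.center (L ⧸ K))
  set ub : L ⧸ K := (u₀ : L ⧸ K) with hub
  have hub1 : ub ≠ 1 := fun h => hu₀ (Subtype.ext h)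
  have hubo : orderOf ub = p := orderOf_eq_prime (hQp ub) hub1
  obtain ⟨vb, hvb⟩ : ∃ vb : L ⧸ K, vb ∉ Subgroup.zpowers ub := by
    by_contra hcon
    push Not at hcon
    apply hcardne
    have h1 : Subgroup.zpowers ub = ⊤ := by
      rw [eq_top_iff]
      intro x _
      exact hcon x
    rw [← hubo, ← Nat.card_zpowers, h1, Nat.card_congr Subgroup.topEquiv.toEquiv]
  -- lifting to a Sylow `p`-subgroup
  obtain ⟨P⟩ : Nonempty (Sylow p L) := inferInstance
  have hPK : (P : Subgroup L) ⊔ K = ⊤ := by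
    have h1 : ((P : Subgroup L) ⊔ K).index ∣ (P : Subgroup L).index := Subgroup.index_dvd_of_le le_sup_left
    have h2 : ((P : Subgroup L) ⊔ K).index ∣ K.index := Subgroup.index_dvd_of_le le_sup_right
    obtain ⟨a, ha⟩ := IsPGroup.iff_card.1 hQgrp
    rw [Subgroup.index_eq_card (H := K), ha] at h2
    obtain ⟨e, -, he⟩ := (Nat.dvd_prime_pow hp).1 h2
    have h3 : ((P : Subgroup L) ⊔ K).index = 1 := by
      rcases Nat.eq_zero_or_pos e with h0 | h0
      · rw [he, h0, pow_zero]
      · exfalso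
        apply P.not_dvd_index
        rw [he] at h1
        exact (dvd_pow_self p h0.ne').trans h1
    exact Subgroup.index_eq_one.1 h3
  have hlift : ∀ x : L ⧸ K, ∃ y ∈ (P : Subgroup L), π y = x := by
    intro x
    obtain ⟨x, rfl⟩ := QuotientGroup.mk'_surjective K x
    have hx : x ∈ (P : Subgroup L) ⊔ K := hPK ▸ Subgroup.mem_top x
    rw [Subgroup.mem_sup_of_normal_right] at hx
    obtain ⟨y, hy, k, hk, rfl⟩ := hx
    refine ⟨y, hy, ?_⟩
    rw [map_mul, (hπ1 k).2 hk, mul_one]
  obtain ⟨u, huP, hu⟩ := hlift ub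
  obtain ⟨v, hvP, hv⟩ := hlift vb
  have huK : u ∉ K := fun h => hub1 (by rw [← hu]; exact (hπ1 u).2 h)
  -- `P ∩ K` centralizes `V`
  have hX : ∀ r ∈ (P : Subgroup L) ⊓ K, ∀ y ∈ V, r * y * r⁻¹ = y := by
    refine coprime_centralizes' hp hL hVK hVc inf_le_right huK ?_ ?_
    · rintro r ⟨hr1, hr2⟩
      exact ⟨(P : Subgroup L).mul_mem ((P : Subgroup L).mul_mem huP hr1) ((P : Subgroup L).inv_mem huP),
        hKn.conj_mem r hr2 u⟩
    · obtain ⟨a, ha⟩ := IsPGroup.iff_card.1 hVp
      have hXp : IsPGroup p ((P : Subgroup L) ⊓ K : Subgroup L) := P.isPGroup'.to_le inf_le_left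
      obtain ⟨e, he⟩ := IsPGroup.iff_card.1 hXp
      rw [ha, he]
      exact Nat.Coprime.pow _ _ ((Nat.coprime_primes hq hp).2 hqp)
  letI : CommGroup V := { (inferInstance : Group V) with mul_comm := fun a b => Subtype.ext (hVc a a.2 b b.2) }
  let ρ : L →* MulAut V := MulAut.conjNormal
  have hρ : ∀ c (a : V), V.subtype (ρ c a) = c * V.subtype a * c⁻¹ := fun c a => by
    simp [ρ, MulAut.conjNormal_apply]
  have hιK : ∀ a : V, V.subtype a ∈ K := fun a => hVK a.2
  have hfg : Commute (ρ u) (ρ v) := by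
    have hcomm : u * v * u⁻¹ * v⁻¹ ∈ (P : Subgroup L) ⊓ K := by
      refine ⟨?_, ?_⟩
      · exact (P : Subgroup L).mul_mem ((P : Subgroup L).mul_mem ((P : Subgroup L).mul_mem huP hvP)
          ((P : Subgroup L).inv_mem huP)) ((P : Subgroup L).inv_mem hvP)
      · show _ ∈ K
        rw [← hπ1, map_mul, map_mul, map_mul, map_inv, map_inv, hu, hv]
        have hc : ub * vb = vb * ub := (Subgroup.mem_center_iff.1 u₀.2 vb).symm
        rw [hc]
        group
    refine MulEquiv.ext fun y => Subtype.ext ?_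
    have h2 := hX _ hcomm _ (ρ v (ρ u y)).2
    have h3 : ((ρ u (ρ v y) : V) : L) = u * (v * y * v⁻¹) * u⁻¹ := by
      simp [ρ, MulAut.conjNormal_apply]
    have h4 : ((ρ v (ρ u y) : V) : L) = v * (u * y * u⁻¹) * v⁻¹ := by
      simp [ρ, MulAut.conjNormal_apply]
    show ((ρ u (ρ v y) : V) : L) = ((ρ v (ρ u y) : V) : L)
    rw [h4] at h2
    rw [h3, h4, ← h2]
    group
  have h1' : ∀ k, k < p → ∀ y : V, ∏ j ∈ Finset.range p, ((ρ v * ρ u ^ k) ^ j) y = 1 := by
    intro k _ y
    have hc : v * u ^ k ∉ K := by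
      intro h
      apply hvb
      have h2 := (hπ1 _).2 h
      rw [map_mul, map_pow, hu, hv] at h2
      have h3 : vb = (ub ^ k)⁻¹ := eq_inv_of_mul_eq_one_left h2
      rw [h3]
      exact Subgroup.inv_mem _ (Subgroup.pow_mem _ (Subgroup.mem_zpowers ub) k)
    have := trace_eq_one V.subtype ρ V.subtype_injective hρ hιK hL hc y
    rw [← this]
    refine Finset.prod_congr rfl fun j _ => ?_
    rw [map_pow, map_mul, map_pow]
  have h2' : ∀ j, 0 < j → j < p → ∀ y : V, ∏ k ∈ Finset.range p, ((ρ u ^ j) ^ k) y = 1 := by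
    intro j hj0 hjp y
    have hc : u ^ j ∉ K := fun h =>
      huK (pow_mem_of_pow_eq_one hp (Nat.not_dvd_of_pos_of_lt hj0 hjp) (hL u huK) h)
    have := trace_eq_one V.subtype ρ V.subtype_injective hρ hιK hL hc y
    rw [← this]
    refine Finset.prod_congr rfl fun k _ => ?_
    rw [map_pow, map_pow]
  have h5 := pow_eq_one_of_commuting hp (ρ u) (ρ v) hfg h1' h2' ⟨(w : L), hwV'⟩
  have h6 : (w : L) ^ p = 1 := congrArg Subtype.val h5
  have h7 : w ^ p = 1 := Subtype.ext (by simpa using h6)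
  have h8 := orderOf_dvd_of_pow_eq_one h7
  rw [hwo] at h8
  exact hqp ((Nat.prime_dvd_prime_iff_eq hq hp).1 h8)

end Main

end Cfsg.Agent.Lib.Kegel
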